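import Cfsg.Agent.BabyU.Lab

/-!
# Canonical lifts of root elements in central extensions

`R : Lab.Roots E T`, `π : L →* E` onto with central kernel, the centralisers of the elements of `T` perfect.
`Cn π T y` : `y` is the commutator of lifts of a special pair. The canonical lifts form one conjugacy class, which is mapped
bijectively onto `T`; they are involutions, and the product of two of them is canonical as soon as it lies over `T`.
-/

set_option autoImplicit false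

namespace Cfsg.Agent.H926.F4

open Cfsg.Agent.BabyU
open Subgroup
open scoped commutatorElement

universe u v

section

variable {E : Type u} [Group E] {T : Set E} {L : Type v} [Group L] {π : L →* E}

/-- a canonical lift of a root element -/
def Cn (π : L →* E) (T : Set E) (y : L) : Prop :=
  ∃ a b : L, π a ∈ T ∧ π b ∈ T ∧ (π a * π b) ^ 2 ∈ T ∧ y = a * b * a⁻¹ * b⁻¹

/-- the hypotheses -/
structure Hyp (π : L →* E) (T : Set E) : Prop where
  R : Lab.Roots E T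
  perf : ∀ r ∈ T, ⁅centralizer ({r} : Set E), centralizer ({r} : Set E)⁆ = centralizer ({r} : Set E)
  surj : Function.Surjective π
  cent : π.ker ≤ center L

variable (H : Hyp π T)
include H

theorem Hyp.cen {z : L} (hz : π z = 1) (g : L) : g * z = z * g :=
  mem_center_iff.1 (H.cent (MonoidHom.mem_ker.2 hz)) g

/-- commuting in `E` implies commuting in `L` -/
theorem Hyp.comm {y g : L} (hy : π y ∈ T) (h : π g * π y = π y * π g) : g * y = y * g := by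
  -- the subgroup of the elements `x` with `[x, y] = 1`
  have key : centralizer ({π y} : Set E) ≤ (centralizer ({y} : Set L)).map π := by
    rw [← H.perf _ hy, commutator_le]
    intro a ha b hb
    obtain ⟨a, rfl⟩ := H.surj a
    obtain ⟨b, rfl⟩ := H.surj b
    rw [mem_centralizer_singleton_iff] at ha hb
    have ha' : π (a * y * a⁻¹ * y⁻¹) = 1 := by
      rw [map_mul, map_mul, map_mul, map_inv, map_inv]
      have : π a * π y = π y * π a := ha
      rw [this]; group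
    have hb' : π (b * y * b⁻¹ * y⁻¹) = 1 := by
      rw [map_mul, map_mul, map_mul, map_inv, map_inv]
      have : π b * π y = π y * π b := hb
      rw [this]; group
    refine ⟨a * b * a⁻¹ * b⁻¹, ?_, by rw [commutatorElement_def, map_mul, map_mul, map_mul, map_inv, map_inv]⟩
    rw [SetLike.mem_coe, mem_centralizer_singleton_iff]
    obtain ⟨z, hz⟩ : ∃ z, z = a * y * a⁻¹ * y⁻¹ := ⟨_, rfl⟩
    obtain ⟨w, hw⟩ : ∃ w, w = b * y * b⁻¹ * y⁻¹ := ⟨_, rfl⟩
    rw [← hz] at ha'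
    rw [← hw] at hb'
    have e1 : a * y * a⁻¹ = z * y := by rw [hz]; group
    have e2 : b * y * b⁻¹ = w * y := by rw [hw]; group
    have e1' : a⁻¹ * y * a = z⁻¹ * y := by
      have h1 : π z⁻¹ = 1 := by rw [map_inv, ha', inv_one]
      have h2 : a * (z⁻¹ * y) * a⁻¹ = y := by
        rw [← mul_assoc, H.cen h1 a]
        calc z⁻¹ * a * y * a⁻¹ = z⁻¹ * (a * y * a⁻¹) := by group
          _ = y := by rw [e1, inv_mul_cancel_left]
      calc a⁻¹ * y * a = a⁻¹ * (a * (z⁻¹ * y) * a⁻¹) * a := by rw [h2]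
        _ = _ := by group
    have e2' : b⁻¹ * y * b = w⁻¹ * y := by
      have h1 : π w⁻¹ = 1 := by rw [map_inv, hb', inv_one]
      have h2 : b * (w⁻¹ * y) * b⁻¹ = y := by
        rw [← mul_assoc, H.cen h1 b]
        calc w⁻¹ * b * y * b⁻¹ = w⁻¹ * (b * y * b⁻¹) := by group
          _ = y := by rw [e2, inv_mul_cancel_left]
      calc b⁻¹ * y * b = b⁻¹ * (b * (w⁻¹ * y) * b⁻¹) * b := by rw [h2]
        _ = _ := by group
    have c1 : ∀ g, g * z = z * g := H.cen ha'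
    have c2 : ∀ g, g * w = w * g := H.cen hb'
    have c1' : ∀ g, g * z⁻¹ = z⁻¹ * g := H.cen (by rw [map_inv, ha', inv_one])
    have c2' : ∀ g, g * w⁻¹ = w⁻¹ * g := H.cen (by rw [map_inv, hb', inv_one])
    have e3 : (a * b * a⁻¹ * b⁻¹) * y * (a * b * a⁻¹ * b⁻¹)⁻¹ = y := by
      calc (a * b * a⁻¹ * b⁻¹) * y * (a * b * a⁻¹ * b⁻¹)⁻¹ = a * b * a⁻¹ * (b⁻¹ * y * b) * a * b⁻¹ * a⁻¹ := by group
        _ = a * b * (a⁻¹ * w⁻¹) * y * a * b⁻¹ * a⁻¹ := by rw [e2']; group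
        _ = a * (b * w⁻¹) * (a⁻¹ * y * a) * b⁻¹ * a⁻¹ := by rw [c2']; group
        _ = a * w⁻¹ * (b * z⁻¹) * y * b⁻¹ * a⁻¹ := by rw [c2', e1']; group
        _ = a * w⁻¹ * z⁻¹ * (b * y * b⁻¹) * a⁻¹ := by rw [c1']; group
        _ = a * w⁻¹ * (z⁻¹ * w) * y * a⁻¹ := by rw [e2]; group
        _ = (a * z⁻¹) * y * a⁻¹ := by rw [c2]; group
        _ = z⁻¹ * (a * y * a⁻¹) := by rw [c1']; group
        _ = y := by rw [e1]; group
    rw [mul_inv_eq_iff_eq_mul] at e3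
    exact e3
  have h1 : π g ∈ centralizer ({π y} : Set E) := mem_centralizer_singleton_iff.2 h
  obtain ⟨k, hk, e⟩ := key h1
  have hk' : k * y = y * k := mem_centralizer_singleton_iff.1 hk
  have h2 : π (k⁻¹ * g) = 1 := by rw [map_mul, map_inv, e, inv_mul_cancel]
  have h3 := H.cen h2 y
  calc g * y = k * ((k⁻¹ * g) * y) := by group
    _ = (k * y) * (k⁻¹ * g) := by rw [← h3]; group
    _ = y * g := by rw [hk']; group

omit H in
theorem sq_eq {a b : E} (ha : a * a = 1) (hb : b * b = 1) : a * b * a⁻¹ * b⁻¹ = (a * b) ^ 2 := by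
  rw [inv_eq_of_mul_eq_one_left ha, inv_eq_of_mul_eq_one_left hb, pow_two]
  group

theorem Hyp.map_mem {y : L} (hy : Cn π T y) : π y ∈ T := by
  obtain ⟨a, b, ha, hb, h, rfl⟩ := hy
  rw [map_mul, map_mul, map_mul, map_inv, map_inv, sq_eq (H.R.sq _ ha) (H.R.sq _ hb)]
  exact h

theorem Hyp.cn_conj {y : L} (hy : Cn π T y) (g : L) : Cn π T (g * y * g⁻¹) := by
  obtain ⟨a, b, ha, hb, h, rfl⟩ := hy
  refine ⟨g * a * g⁻¹, g * b * g⁻¹, ?_, ?_, ?_, by group⟩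
  · rw [map_mul, map_mul, map_inv]; exact H.R.conj _ ha _
  · rw [map_mul, map_mul, map_inv]; exact H.R.conj _ hb _
  · have e : (π (g * a * g⁻¹) * π (g * b * g⁻¹)) ^ 2 = π g * (π a * π b) ^ 2 * (π g)⁻¹ := by
      rw [map_mul, map_mul, map_mul, map_mul, map_inv, pow_two, pow_two]; group
    rw [e]
    exact H.R.conj _ h _

/-- lifts of conjugate pairs -/
theorem Hyp.comm_lift {a b a' b' g : L} (h1 : π (g * a * g⁻¹) = π a') (h2 : π (g * b * g⁻¹) = π b') :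
    g * (a * b * a⁻¹ * b⁻¹) * g⁻¹ = a' * b' * a'⁻¹ * b'⁻¹ := by
  have z1 : π (a'⁻¹ * (g * a * g⁻¹)) = 1 := by rw [map_mul, map_inv, h1, inv_mul_cancel]
  have z2 : π (b'⁻¹ * (g * b * g⁻¹)) = 1 := by rw [map_mul, map_inv, h2, inv_mul_cancel]
  obtain ⟨z, hz⟩ : ∃ z, z = a'⁻¹ * (g * a * g⁻¹) := ⟨_, rfl⟩
  obtain ⟨w, hw⟩ : ∃ w, w = b'⁻¹ * (g * b * g⁻¹) := ⟨_, rfl⟩
  rw [← hz] at z1
  rw [← hw] at z2
  have e1 : g * a * g⁻¹ = a' * z := by rw [hz]; group
  have e2 : g * b * g⁻¹ = b' * w := by rw [hw]; group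
  have c1 := H.cen z1
  have c2 := H.cen z2
  have c1' : ∀ x, x * z⁻¹ = z⁻¹ * x := H.cen (by rw [map_inv, z1, inv_one])
  calc g * (a * b * a⁻¹ * b⁻¹) * g⁻¹ = (g * a * g⁻¹) * (g * b * g⁻¹) * (g * a * g⁻¹)⁻¹ * (g * b * g⁻¹)⁻¹ := by group
    _ = a' * (z * b') * w * z⁻¹ * a'⁻¹ * w⁻¹ * b'⁻¹ := by rw [e1, e2]; group
    _ = a' * b' * z * (w * z⁻¹) * a'⁻¹ * w⁻¹ * b'⁻¹ := by rw [← c1 b']; group
    _ = a' * b' * (w * a'⁻¹) * w⁻¹ * b'⁻¹ := by rw [c1' w]; group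
    _ = a' * b' * a'⁻¹ * b'⁻¹ := by rw [← c2 a'⁻¹]; group

theorem Hyp.cn_trans {y y' : L} (hy : Cn π T y) (hy' : Cn π T y') : ∃ g : L, g * y * g⁻¹ = y' := by
  obtain ⟨a, b, ha, hb, h, rfl⟩ := hy
  obtain ⟨a', b', ha', hb', h', rfl⟩ := hy'
  obtain ⟨g, h1, h2⟩ := H.R.spe _ ha _ hb _ ha' _ hb' h h'
  obtain ⟨g, rfl⟩ := H.surj g
  exact ⟨g, H.comm_lift (by rw [map_mul, map_mul, map_inv]; exact h1) (by rw [map_mul, map_mul, map_inv]; exact h2)⟩

theorem Hyp.exists_cn {t : E} (ht : t ∈ T) : ∃ y : L, Cn π T y ∧ π y = t := by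
  obtain ⟨a, ha, b, hb, h⟩ := H.R.spe_ex
  obtain ⟨a, rfl⟩ := H.surj a
  obtain ⟨b, rfl⟩ := H.surj b
  have h1 : Cn π T (a * b * a⁻¹ * b⁻¹) := ⟨a, b, ha, hb, h, rfl⟩
  obtain ⟨g, hg⟩ := H.R.one _ (H.map_mem h1) _ ht
  obtain ⟨g, rfl⟩ := H.surj g
  exact ⟨_, H.cn_conj h1 g, by rw [← hg, map_mul, map_mul, map_inv]⟩

theorem Hyp.cn_comm {y g : L} (hy : Cn π T y) (h : π g * π y = π y * π g) : g * y = y * g :=
  H.comm (H.map_mem hy) h

theorem Hyp.cn_unique {y y' : L} (hy : Cn π T y) (hy' : Cn π T y') (h : π y = π y') : y = y' := by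
  obtain ⟨g, rfl⟩ := H.cn_trans hy hy'
  rw [map_mul, map_mul, map_inv, eq_mul_inv_iff_mul_eq] at h
  rw [H.cn_comm hy h.symm]
  group

/-- **The line relation.** -/
theorem Hyp.cn_line {y y' : L} (hy : Cn π T y) (hy' : Cn π T y') (h : π y * π y' ∈ T) : Cn π T (y * y') := by
  obtain ⟨a, ha, b, hb, x, hx, h1, h2, h3, h4, h5⟩ := H.R.cfg_line
  obtain ⟨a, rfl⟩ := H.surj a
  obtain ⟨b, rfl⟩ := H.surj b
  obtain ⟨x, rfl⟩ := H.surj x
  have k1 : Cn π T (x * a * x⁻¹ * a⁻¹) := ⟨x, a, hx, ha, h2, rfl⟩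
  have k2 : Cn π T (x * b * x⁻¹ * b⁻¹) := ⟨x, b, hx, hb, h3, rfl⟩
  have k3 : Cn π T (x * (a * b) * x⁻¹ * (a * b)⁻¹) := ⟨x, a * b, hx, by rw [map_mul]; exact h1, by
    rw [map_mul]; exact h4, rfl⟩
  have e1 : π (x * b * x⁻¹ * b⁻¹) = (π x * π b) ^ 2 := by
    rw [map_mul, map_mul, map_mul, map_inv, map_inv, sq_eq (H.R.sq _ hx) (H.R.sq _ hb)]
  have e2 : a * (x * b * x⁻¹ * b⁻¹) = (x * b * x⁻¹ * b⁻¹) * a := H.cn_comm k2 (by rw [e1]; exact h5)
  have e3 : x * (a * b) * x⁻¹ * (a * b)⁻¹ = (x * a * x⁻¹ * a⁻¹) * (x * b * x⁻¹ * b⁻¹) := by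
    calc x * (a * b) * x⁻¹ * (a * b)⁻¹ = (x * a * x⁻¹ * a⁻¹) * (a * (x * b * x⁻¹ * b⁻¹)) * a⁻¹ := by group
      _ = _ := by rw [e2]; group
  rw [e3] at k3
  generalize x * a * x⁻¹ * a⁻¹ = u at k1 k3
  generalize x * b * x⁻¹ * b⁻¹ = v at k2 k3
  have k4 := H.map_mem k3
  rw [map_mul] at k4
  obtain ⟨g, g1, g2⟩ := H.R.col _ (H.map_mem k1) _ (H.map_mem k2) _ (H.map_mem hy) _ (H.map_mem hy') k4 h
  obtain ⟨g, rfl⟩ := H.surj g
  have f1 : g * u * g⁻¹ = y := H.cn_unique (H.cn_conj k1 g) hy (by rw [← g1, map_mul, map_mul, map_inv])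
  have f2 : g * v * g⁻¹ = y' := H.cn_unique (H.cn_conj k2 g) hy' (by rw [← g2, map_mul, map_mul, map_inv])
  have f3 : y * y' = g * (u * v) * g⁻¹ := by rw [← f1, ← f2]; group
  rw [f3]
  exact H.cn_conj k3 g

/-- canonical lifts of commuting root elements commute -/
theorem Hyp.cn_comm2 {y y' : L} (hy : Cn π T y) (h : π y * π y' = π y' * π y) : y * y' = y' * y :=
  (H.cn_comm hy h.symm).symm

/-- canonical lifts are involutions -/
theorem Hyp.cn_sq {y : L} (hy : Cn π T y) : y * y = 1 := by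
  obtain ⟨a, ha, b, hb, x, hx, h1, -⟩ := H.R.cfg_line
  obtain ⟨u, hu, rfl⟩ := H.exists_cn ha
  obtain ⟨v, hv, rfl⟩ := H.exists_cn hb
  have hw := H.cn_line hu hv h1
  have hc : ∀ g y : L, Cn π T y → g * (y * y) = (y * y) * g := fun g y hy => H.cen (by
    rw [map_mul]; exact H.R.sq _ (H.map_mem hy)) g
  have key : ∀ y y' : L, Cn π T y → Cn π T y' → y * y = y' * y' := by
    intro y y' hy hy'
    obtain ⟨g, rfl⟩ := H.cn_trans hy hy'
    calc y * y = g⁻¹ * (g * (y * y)) := by group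
      _ = g⁻¹ * ((y * y) * g) := by rw [hc g y hy]
      _ = g⁻¹ * ((y * y) * g) := rfl
      _ = g * (y * y) * g⁻¹ := by rw [← hc g y hy, inv_mul_cancel_left, hc g y hy, mul_inv_cancel_right]
      _ = _ := by group
  have e0 : (π u * π v) * (π u * π v) = 1 := H.R.sq _ h1
  have e1 : π v * π u = π u * π v := by
    have h2 := H.R.sq _ (H.map_mem hu)
    have h3 := H.R.sq _ (H.map_mem hv)
    calc π v * π u = (π u * π u) * (π v * π u) * (π v * π v) := by rw [h2, h3, one_mul, mul_one]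
      _ = π u * ((π u * π v) * (π u * π v)) * π v := by group
      _ = _ := by rw [e0, mul_one]
  have e2 : v * u = u * v := H.cn_comm hu e1
  have e3 : (u * v) * (u * v) = (u * u) * (v * v) := by
    calc (u * v) * (u * v) = u * (v * u) * v := by group
      _ = _ := by rw [e2]; group
  rw [key _ _ hw hu, key _ _ hv hu] at e3
  have e4 : u * u = 1 := mul_eq_left.1 e3.symm
  rw [key _ _ hy hu, e4]

end

end Cfsg.Agent.H926.F4
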